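import Groth.Agent.BiextRigidLib.Main

/-!
# No biadditive maps between abelian schemes
-/

set_option autoImplicit false
set_option backward.isDefEq.respectTransparency false
set_option backward.isDefEq.respectTransparency.types false
set_option linter.style.haveILetI false
set_option maxHeartbeats 1000000

universe u

open CategoryTheory CategoryTheory.Limits MonoidalCategory CartesianMonoidalCategory AlgebraicGeometry Opposite
open scoped MonObj

noncomputable section

namespace Groth.Agent.BiaddZeroLib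

variable {S : Scheme.{u}} (K : Precoverage Scheme.{u}) [(QuotSh.J K S).Subcanonical]

theorem eq_zero (A B C : Over S) [GrpObj A] [IsCommMonObj A] [Smooth A.hom]
    [GrpObj B] [IsCommMonObj B] [Smooth B.hom] [IsProper B.hom]
    [GrpObj C] [IsCommMonObj C] [IsSeparated C.hom]
    (hA : ∀ s : S, ConnectedSpace ↥(A.hom.fiber s)) (hB : ∀ s : S, ConnectedSpace ↥(B.hom.fiber s))
    (φ : CGrpSh.pts K A ⟶ HomSh.homSh (QuotSh.J K S) (CGrpSh.pts K B) (CGrpSh.pts K C)) : φ = 0 := by
  let η₀ : (CGrpSh.pts K B).over A ⟶ (CGrpSh.pts K C).over A :=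
    φ.hom.app (op A) (ULift.up (Additive.ofMul (𝟙 A)))
  let ev : ∀ {T : Over S} (a : T ⟶ A), (T ⟶ B) → (T ⟶ C) := fun {T} a b =>
    (η₀.hom.app (op (Over.mk a)) (ULift.up (Additive.ofMul b))).down.toMul
  have ev_nat : ∀ {T T' : Over S} (a : T ⟶ A) (m : T' ⟶ T) (b : T ⟶ B),
      ev (m ≫ a) (m ≫ b) = m ≫ ev a b := by
    intro T T' a m b
    let w : Over.mk (m ≫ a) ⟶ Over.mk a := Over.homMk m rfl
    have h := ConcreteCategory.congr_hom (η₀.hom.naturality w.op)
      (ULift.up (Additive.ofMul b) : (CGrpSh.pts K B).obj.obj (op T))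
    exact congrArg (fun t => Additive.toMul (ULift.down t)) h
  have hφ : ∀ {T : Over S} (a : T ⟶ A) {T' : Over S} (m : T' ⟶ T) (b : T' ⟶ B),
      ((φ.hom.app (op T) (ULift.up (Additive.ofMul a)) : (CGrpSh.pts K B).over T ⟶ (CGrpSh.pts K C).over T).hom.app
        (op (Over.mk m)) (ULift.up (Additive.ofMul b))).down.toMul = ev (m ≫ a) b := by
    intro T a T' m b
    have h := ConcreteCategory.congr_hom (φ.hom.naturality a.op)
      (ULift.up (Additive.ofMul (𝟙 A)) : (CGrpSh.pts K A).obj.obj (op A))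
    have e : ((CGrpSh.pts K A).obj.map a.op) (ULift.up (Additive.ofMul (𝟙 A))) = ULift.up (Additive.ofMul a) := by
      apply ULift.ext
      show Additive.ofMul (a ≫ 𝟙 A) = Additive.ofMul a
      rw [Category.comp_id]
    rw [ConcreteCategory.comp_apply, e] at h
    rw [h]
    rfl
  let ψ : A ⊗ B ⟶ C := ev (fst A B) (snd A B)
  have hψ : ∀ {T : Over S} (a : T ⟶ A) (b : T ⟶ B), ev a b = lift a b ≫ ψ := by
    intro T a b
    rw [← ev_nat, lift_fst, lift_snd]
  have h₁ : lift (1 : B ⟶ A) (𝟙 B) ≫ ψ = 1 := by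
    rw [← hψ, ← Category.id_comp (1 : B ⟶ A), ← hφ (1 : B ⟶ A) (𝟙 B) (𝟙 B)]
    have hz : (φ.hom.app (op B)) (ULift.up (Additive.ofMul (1 : B ⟶ A))) = 0 := map_zero (φ.hom.app (op B)).hom
    rw [hz]
    rfl
  have h₂ : lift (𝟙 A) (1 : A ⟶ B) ≫ ψ = 1 := by
    rw [← hψ]
    exact congrArg (fun t => Additive.toMul (ULift.down t)) (map_zero (η₀.hom.app (op (Over.mk (𝟙 A)))).hom)
  have hψ1 := BiextRigidLib.eq_one_of_axes A B C hA hB ψ h₁ h₂
  refine Sheaf.hom_ext (NatTrans.ext (funext fun X => AddCommGrpCat.ext fun a => ?_))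
  refine Sheaf.hom_ext (NatTrans.ext (funext fun W => AddCommGrpCat.ext fun b => ?_))
  apply ULift.ext
  have h := hφ a.down.toMul W.unop.hom b.down.toMul
  rw [hψ, hψ1, MonObj.comp_one] at h
  exact congrArg Additive.ofMul h

end Groth.Agent.BiaddZeroLib

end
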